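import Cfsg.Agent.Lib.Sporadic.ThPres.SubA.Tree0

set_option autoImplicit false
set_option maxRecDepth 20000

/-! Generated certificate: cosets of <d,e,s> in <acdes> (tools/cosetbound/gen_pairs.py; generated; owner: helper9). -/

namespace CfsgLib.Sporadic.ThPres.SubA
open CfsgLib.Recog.SporBound (Q)

noncomputable def factTree : Q (ℕ) := (.node ft6 ft12 ft18 ft24)
noncomputable def nodeTree : Q (ℕ) := (.node ct0 ct1 ct2 ct3)
noncomputable def stepTree : Q (List ℕ) := (.node st9 st18 st27 st36)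
noncomputable def finalTree : Q (List ℕ) := (.node et10 et21 et32 et43)

/-- The certificate. -/
noncomputable def cert : CfsgLib.Sporadic.PairEnum.Cert where
  n := 512
  nd := 543
  nf := 2615
  nl := 10
  kl := [0, 2, 4, 6, 8]
  facts := factTree
  cn := nodeTree
  steps := stepTree
  finals := finalTree
  rels := [[0, 0],
    [2, 2],
    [4, 4],
    [6, 6],
    [0, 6, 0, 6],
    [0, 5, 3, 5, 3, 5, 3, 5, 3],
    [2, 6, 2, 6],
    [4, 6, 4, 6, 4, 6],
    [8, 8, 8, 8, 8, 8, 8],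
    [9, 1, 8, 0],
    [9, 3, 8, 2],
    [8, 4, 8, 4],
    [7, 9, 6, 8, 9, 9, 9, 7, 8, 8, 8],
    [4, 6, 8, 2, 4, 6, 8, 2, 4, 6, 8, 2, 4, 6, 8, 2, 4, 6, 8, 2, 4, 6, 8, 2, 4, 6, 8, 2, 4, 6, 8, 2, 4, 6, 8, 2]]
  subs := [[4],
    [6],
    [8]]

/-- Traced words with their chains. -/
noncomputable def closers : List (List ℕ × ℕ) :=
  []

end CfsgLib.Sporadic.ThPres.SubA
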